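import Cfsg.Agent.Lib.MultMcL.Elem
import Cfsg.Agent.Lib.MultMcL.MFiveData

/-! Kernel checks of a certificate for McL. -/

set_option autoImplicit false
set_option maxRecDepth 20000
set_option Elab.async false

namespace Cfsg.Agent.MultMcL

open Cfsg.Agent.StemCert

theorem mFive_tbls : tblsOk mFiveW mFiveT = true := by decide +kernel

theorem mFive_check : mFive.shapeOk = true ∧ mFive.linOk = true ∧ groupOk mFive mFiveT = true ∧
    incOk mFive mFiveB mFiveK = true ∧ mFive.N = 125 := by
  decide +kernel

theorem mFive_tab_0_0 : ((List.range 125).all fun e => mFive.stepOk 0 (0 + e)) = true := by decide +kernel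
theorem mFive_tab_1_0 : ((List.range 125).all fun e => mFive.stepOk 1 (0 + e)) = true := by decide +kernel
theorem mFive_tab_2_0 : ((List.range 125).all fun e => mFive.stepOk 2 (0 + e)) = true := by decide +kernel

theorem mFive_tab : mFive.tabOk = true := by
  simp only [Cert.tabOk, List.all_eq_true, List.mem_range]
  intro i hi e he
  have hN : mFive.N = 125 := mFive_check.2.2.2.2
  have hi' : i < 3 := hi
  interval_cases i
  · simpa using List.all_eq_true.1 mFive_tab_0_0 e (List.mem_range.2 (by omega))
  · simpa using List.all_eq_true.1 mFive_tab_1_0 e (List.mem_range.2 (by omega))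
  · simpa using List.all_eq_true.1 mFive_tab_2_0 e (List.mem_range.2 (by omega))

theorem mFive_form_0 : ((List.range 125).all fun e => formOk mFive mFiveT mFiveB mFiveK mFiveP mFiveS (0 + e)) = true := by decide +kernel

theorem mFive_form : ∀ e < mFive.N, formOk mFive mFiveT mFiveB mFiveK mFiveP mFiveS e = true := by
  intro e he
  have hN : mFive.N = 125 := mFive_check.2.2.2.2
  simpa using List.all_eq_true.1 mFive_form_0 e (List.mem_range.2 (by omega))

theorem mFive_bound : mFive.c = 0 ∧ mFive.n = 5 := by decide +kernel

end Cfsg.Agent.MultMcL
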