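import Cfsg.Agent.Lib.MultMcL.Elem
import Cfsg.Agent.Lib.MultMcL.MThreeData

/-! Kernel checks of a certificate for McL. -/

set_option autoImplicit false
set_option maxRecDepth 20000
set_option Elab.async false

namespace Cfsg.Agent.MultMcL

open Cfsg.Agent.StemCert

theorem mThree_tbls : tblsOk mThreeW mThreeT = true := by decide +kernel

theorem mThree_check : mThree.shapeOk = true ∧ mThree.linOk = true ∧ groupOk mThree mThreeT = true ∧
    incOk mThree mThreeB mThreeK = true ∧ mThree.N = 729 := by
  decide +kernel

theorem mThree_tab_0_0 : ((List.range 243).all fun e => mThree.stepOk 0 (0 + e)) = true := by decide +kernel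
theorem mThree_tab_0_1 : ((List.range 243).all fun e => mThree.stepOk 0 (243 + e)) = true := by decide +kernel
theorem mThree_tab_0_2 : ((List.range 243).all fun e => mThree.stepOk 0 (486 + e)) = true := by decide +kernel
theorem mThree_tab_1_0 : ((List.range 243).all fun e => mThree.stepOk 1 (0 + e)) = true := by decide +kernel
theorem mThree_tab_1_1 : ((List.range 243).all fun e => mThree.stepOk 1 (243 + e)) = true := by decide +kernel
theorem mThree_tab_1_2 : ((List.range 243).all fun e => mThree.stepOk 1 (486 + e)) = true := by decide +kernel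
theorem mThree_tab_2_0 : ((List.range 243).all fun e => mThree.stepOk 2 (0 + e)) = true := by decide +kernel
theorem mThree_tab_2_1 : ((List.range 243).all fun e => mThree.stepOk 2 (243 + e)) = true := by decide +kernel
theorem mThree_tab_2_2 : ((List.range 243).all fun e => mThree.stepOk 2 (486 + e)) = true := by decide +kernel
theorem mThree_tab_3_0 : ((List.range 243).all fun e => mThree.stepOk 3 (0 + e)) = true := by decide +kernel
theorem mThree_tab_3_1 : ((List.range 243).all fun e => mThree.stepOk 3 (243 + e)) = true := by decide +kernel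
theorem mThree_tab_3_2 : ((List.range 243).all fun e => mThree.stepOk 3 (486 + e)) = true := by decide +kernel
theorem mThree_tab_4_0 : ((List.range 243).all fun e => mThree.stepOk 4 (0 + e)) = true := by decide +kernel
theorem mThree_tab_4_1 : ((List.range 243).all fun e => mThree.stepOk 4 (243 + e)) = true := by decide +kernel
theorem mThree_tab_4_2 : ((List.range 243).all fun e => mThree.stepOk 4 (486 + e)) = true := by decide +kernel
theorem mThree_tab_5_0 : ((List.range 243).all fun e => mThree.stepOk 5 (0 + e)) = true := by decide +kernel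
theorem mThree_tab_5_1 : ((List.range 243).all fun e => mThree.stepOk 5 (243 + e)) = true := by decide +kernel
theorem mThree_tab_5_2 : ((List.range 243).all fun e => mThree.stepOk 5 (486 + e)) = true := by decide +kernel

theorem mThree_tab : mThree.tabOk = true := by
  simp only [Cert.tabOk, List.all_eq_true, List.mem_range]
  intro i hi e he
  have hN : mThree.N = 729 := mThree_check.2.2.2.2
  have hi' : i < 6 := hi
  obtain ⟨k, r, hk, hr, rfl⟩ : ∃ k r, k < 3 ∧ r < 243 ∧ e = 243 * k + r :=
    ⟨e / 243, e % 243, by omega, by omega, by omega⟩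
  interval_cases i <;> interval_cases k
  · exact List.all_eq_true.1 mThree_tab_0_0 r (List.mem_range.2 hr)
  · exact List.all_eq_true.1 mThree_tab_0_1 r (List.mem_range.2 hr)
  · exact List.all_eq_true.1 mThree_tab_0_2 r (List.mem_range.2 hr)
  · exact List.all_eq_true.1 mThree_tab_1_0 r (List.mem_range.2 hr)
  · exact List.all_eq_true.1 mThree_tab_1_1 r (List.mem_range.2 hr)
  · exact List.all_eq_true.1 mThree_tab_1_2 r (List.mem_range.2 hr)
  · exact List.all_eq_true.1 mThree_tab_2_0 r (List.mem_range.2 hr)
  · exact List.all_eq_true.1 mThree_tab_2_1 r (List.mem_range.2 hr)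
  · exact List.all_eq_true.1 mThree_tab_2_2 r (List.mem_range.2 hr)
  · exact List.all_eq_true.1 mThree_tab_3_0 r (List.mem_range.2 hr)
  · exact List.all_eq_true.1 mThree_tab_3_1 r (List.mem_range.2 hr)
  · exact List.all_eq_true.1 mThree_tab_3_2 r (List.mem_range.2 hr)
  · exact List.all_eq_true.1 mThree_tab_4_0 r (List.mem_range.2 hr)
  · exact List.all_eq_true.1 mThree_tab_4_1 r (List.mem_range.2 hr)
  · exact List.all_eq_true.1 mThree_tab_4_2 r (List.mem_range.2 hr)
  · exact List.all_eq_true.1 mThree_tab_5_0 r (List.mem_range.2 hr)
  · exact List.all_eq_true.1 mThree_tab_5_1 r (List.mem_range.2 hr)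
  · exact List.all_eq_true.1 mThree_tab_5_2 r (List.mem_range.2 hr)

theorem mThree_form_0 : ((List.range 243).all fun e => formOk mThree mThreeT mThreeB mThreeK mThreeP mThreeS (0 + e)) = true := by decide +kernel
theorem mThree_form_1 : ((List.range 243).all fun e => formOk mThree mThreeT mThreeB mThreeK mThreeP mThreeS (243 + e)) = true := by decide +kernel
theorem mThree_form_2 : ((List.range 243).all fun e => formOk mThree mThreeT mThreeB mThreeK mThreeP mThreeS (486 + e)) = true := by decide +kernel

theorem mThree_form : ∀ e < mThree.N, formOk mThree mThreeT mThreeB mThreeK mThreeP mThreeS e = true := by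
  intro e he
  have hN : mThree.N = 729 := mThree_check.2.2.2.2
  obtain ⟨k, r, hk, hr, rfl⟩ : ∃ k r, k < 3 ∧ r < 243 ∧ e = 243 * k + r :=
    ⟨e / 243, e % 243, by omega, by omega, by omega⟩
  interval_cases k
  · exact List.all_eq_true.1 mThree_form_0 r (List.mem_range.2 hr)
  · exact List.all_eq_true.1 mThree_form_1 r (List.mem_range.2 hr)
  · exact List.all_eq_true.1 mThree_form_2 r (List.mem_range.2 hr)

theorem mThree_bound : mThree.boundOk 3 = true ∧ mThree.n = 9 := by decide +kernel

end Cfsg.Agent.MultMcL
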