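import Cfsg.Agent.Lib.MultMcL.MTwoCheck
import Cfsg.Agent.Lib.MultMcL.MThreeCheck
import Cfsg.Agent.Lib.MultMcL.MFiveCheck
import Cfsg.Agent.Lib.StemCert.Bound
import Cfsg.Agent.Lib.SchurSplit.SmallMain

/-!
Stem kernels of the stabiliser of the pair have order one or three.
-/

set_option autoImplicit false

namespace Cfsg.Agent.MultMcL

open Cfsg.Agent.LeechCount Cfsg.Agent.LeechCount.Co3Out Cfsg.Agent.LeechCount.McLInv
open Cfsg.Agent.StemCert

/-- The element of a word in the four letters. -/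
noncomputable def el (w : List ℕ) : ↥SM := ⟨wordEl (w.map fl), word_mem _⟩

/-- The element with the given number in a list of words. -/
noncomputable def gEl (Ws : List (List ℕ)) (k : ℕ) : ↥SM := el (Ws.getD k [])

theorem run_acts {Ws : List (List ℕ)} {Ts : List ℕ} (h : tblsOk Ws Ts = true) :
    ∀ w : List ℕ, (∀ k ∈ w, k < Ws.length) → Acts ((w.map (gEl Ws)).prod : ↥SM) (run Ts w)
  | [], _ => Acts.one
  | k :: w, hw => by
    have ih := run_acts h w fun j hj => hw j (List.mem_cons_of_mem _ hj)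
    simp only [tblsOk, Bool.and_eq_true, List.all_eq_true, List.mem_range] at h
    have hk : Acts (gEl Ws k : ↥SM) (lk (Ts.getD k 0)) :=
      (acts_word ((Ws.getD k []).map fl)).congr fun i hi =>
        Nat.eq_of_beq_eq_true (h.2 k (hw k List.mem_cons_self) i hi)
    rw [List.map_cons, List.prod_cons, Subgroup.coe_mul]
    exact hk.mul ih

theorem eq_of_sameOn {Ws : List (List ℕ)} {Ts : List ℕ} (h : tblsOk Ws Ts = true) {u v : List ℕ}
    (hu : ∀ k ∈ u, k < Ws.length) (hv : ∀ k ∈ v, k < Ws.length) (e : sameOn Ts u v = true) :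
    (u.map (gEl Ws)).prod = (v.map (gEl Ws)).prod := by
  refine Subtype.ext (acts_inj (run_acts h u hu) ((run_acts h v hv).congr fun i hi => ?_))
  simp only [sameOn, List.all_eq_true, List.mem_range] at e
  exact Nat.eq_of_beq_eq_true (e i hi)

theorem finite_SM : Finite ↥SM := Nat.finite_of_card_ne_zero (by rw [card_SM]; norm_num)

/-- The bound from a certificate. -/
theorem cert_bound (C : Cert) (Ws : List (List ℕ)) (Ts B K P S : List ℕ) (htbl : tblsOk Ws Ts = true)
    (hshape : C.shapeOk = true) (htab : C.tabOk = true) (hlin : C.linOk = true)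
    (hg : groupOk C Ts = true) (hinc : incOk C B K = true)
    (hform : ∀ e < C.N, formOk C Ts B K P S e = true) (hco : Nat.Coprime C.n (898128000 / C.N))
    {Γ : Type} [Group Γ] [Finite Γ] (π : Γ →* ↥SM) (hπ : Function.Surjective π)
    (hc : π.ker ≤ Subgroup.center Γ) (hd : π.ker ≤ commutator Γ) (hexp : ∀ z ∈ π.ker, z ^ C.n = 1) :
    ∃ cv : Γ, π.ker ≤ Subgroup.zpowers cv ∧ (C.c = 0 → cv = 1) ∧
      (∀ k, C.boundOk k = true → cv ^ k = 1) := by
  haveI := finite_SM
  have hlen : Ws.length = Ts.length := by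
    simp only [tblsOk, Bool.and_eq_true] at htbl
    exact Nat.eq_of_beq_eq_true htbl.1
  obtain ⟨-, -, hrels, -, -, -⟩ := Cert.shape hshape
  simp only [groupOk, Bool.and_eq_true, List.all_eq_true, Nat.blt_eq, Nat.ble_eq] at hg
  obtain ⟨⟨hslot, hrel⟩, hm⟩ := hg
  have hlets : ∀ e, ∀ k ∈ C.lets e, k < Ws.length := fun e k hk =>
    lt_of_lt_of_le (Cert.lets_lt hk) (hlen ▸ hm)
  refine ker_le_of_cert C hshape htab hlin (gEl Ws) (fun c => gEl Ws (C.m + c)) ?_ ?_ ?_ ?_
    π hπ hc hd hexp
  · intro r hr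
    have hmem : C.rel r ∈ C.rels := by
      rw [Cert.rel, List.getD_eq_getElem _ _ hr]; exact List.getElem_mem _
    exact eq_of_sameOn htbl
      (fun k hk => lt_of_lt_of_le (hrels _ hmem k (List.mem_append_left _ hk)) (hlen ▸ hm))
      (fun k hk => lt_of_lt_of_le (hrels _ hmem k (List.mem_append_right _ hk)) (hlen ▸ hm))
      (hrel _ hmem)
  · intro s hs
    have hmem : C.slot s ∈ C.slots := by
      rw [Cert.slot, List.getD_eq_getElem _ _ hs]; exact List.getElem_mem _
    obtain ⟨h1, h2⟩ := hslot _ hmem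
    have hs' : C.m + (C.slot s).1 < Ws.length := hlen ▸ h1
    have e := eq_of_sameOn htbl (fun k hk => ?_) (fun k hk => ?_) h2
    · simpa [Cert.sP, List.map_append, List.prod_append] using e
    · rcases List.mem_cons.1 hk with rfl | hk
      exacts [hs', hlets _ k hk]
    · rcases List.mem_append.1 hk with hk | hk
      · exact hlets _ k hk
      · rw [List.mem_singleton.1 hk]; exact hs'
  · intro e he f hf h
    simp only [incOk, Bool.and_eq_true, List.all_eq_true, List.mem_range, Nat.blt_eq] at hinc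
    obtain ⟨hB, hinc⟩ := hinc
    have h1 := hform e he
    have h2 := hform f hf
    simp only [formOk, Bool.and_eq_true, Nat.blt_eq] at h1 h2
    obtain ⟨⟨k1, l1⟩, i1⟩ := h1
    obtain ⟨⟨k2, l2⟩, i2⟩ := h2
    have hkey : keyOf Ts B (C.lets e) = keyOf Ts B (C.lets f) := by
      simp only [keyOf]
      refine congrArg (List.foldr _ 0) (List.map_congr_left fun b hb => ?_)
      have a1 := run_acts htbl _ (hlets e) b (hB b hb)
      have a2 := run_acts htbl _ (hlets f) b (hB b hb)
      rw [show ((C.lets e).map (gEl Ws)).prod = ((C.lets f).map (gEl Ws)).prod from h] at a1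
      exact McLInv.ptV_inj a1.1 a2.1 (a1.2.symm.trans a2.2)
    rw [Nat.eq_of_beq_eq_true k1, Nat.eq_of_beq_eq_true k2] at hkey
    have hmono : ∀ j, j < C.N → ∀ i < j,
        lookW K (10 * B.length) i < lookW K (10 * B.length) j := by
      intro j
      induction j with
      | zero => intro _ i hi; omega
      | succ j ih =>
        intro hj i hi
        have := hinc j (by omega)
        rcases Nat.lt_succ_iff_lt_or_eq.1 hi with hi' | rfl
        · exact lt_trans (ih (by omega) i hi') this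
        · exact this
    have hpos : lookW P 10 e = lookW P 10 f := by
      rcases lt_trichotomy (lookW P 10 e) (lookW P 10 f) with hl | hl | hl
      · exact absurd hkey (ne_of_lt (hmono _ l2 _ hl))
      · exact hl
      · exact absurd hkey.symm (ne_of_lt (hmono _ l1 _ hl))
    rw [← Nat.eq_of_beq_eq_true i1, hpos, Nat.eq_of_beq_eq_true i2]
  · intro H hH
    have h := Subgroup.card_mul_index H
    rw [hH, card_SM] at h
    rwa [← h, Nat.mul_div_cancel_left _ (hH ▸ Nat.card_pos)] at hco

theorem noKer_prime : ∀ p, p.Prime → p ≠ 3 → NoKer ↥SM p := by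
  intro p hp hp3 E _ _ π hπ hc hd hcard
  haveI := finite_SM
  have hexp : ∀ z ∈ π.ker, z ^ p = 1 := fun z hz => by
    have h := pow_card_eq_one' (x := (⟨z, hz⟩ : π.ker))
    rw [hcard] at h
    simpa [Subtype.ext_iff] using h
  by_cases hsq : p ^ 2 ∣ Nat.card ↥SM
  swap
  · exact SchurSplit.noExt_of_sq_not_dvd hp hsq E π hπ hc hcard hd
  rw [card_SM] at hsq
  have hdvd : p ∣ 2 ^ 7 * 3 ^ 6 * 5 ^ 3 * 7 * 11 :=
    (dvd_pow_self p two_ne_zero).trans (by norm_num; exact hsq)
  have h25 : p = 2 ∨ p = 5 := by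
    rcases hp.dvd_mul.1 hdvd with h | h
    · rcases hp.dvd_mul.1 h with h | h
      · rcases hp.dvd_mul.1 h with h | h
        · rcases hp.dvd_mul.1 h with h | h
          · exact Or.inl ((Nat.prime_dvd_prime_iff_eq hp Nat.prime_two).1 (hp.dvd_of_dvd_pow h))
          · exact absurd ((Nat.prime_dvd_prime_iff_eq hp Nat.prime_three).1 (hp.dvd_of_dvd_pow h)) hp3
        · exact Or.inr ((Nat.prime_dvd_prime_iff_eq hp Nat.prime_five).1 (hp.dvd_of_dvd_pow h))
      · rw [(Nat.prime_dvd_prime_iff_eq hp (by norm_num)).1 h] at hsq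
        norm_num at hsq
    · rw [(Nat.prime_dvd_prime_iff_eq hp (by norm_num)).1 h] at hsq
      norm_num at hsq
  rcases h25 with rfl | rfl
  · obtain ⟨h1, h2, h3, h4, hN⟩ := mTwo_check
    obtain ⟨cv, hle, h0, -⟩ := cert_bound mTwo mTwoW mTwoT mTwoB mTwoK mTwoP mTwoS mTwo_tbls h1
      mTwo_tab h2 h3 h4 mTwo_form (by rw [mTwo_bound.2, hN]; decide +kernel) π hπ hc hd
      (by rw [mTwo_bound.2]; exact hexp)
    rw [h0 mTwo_bound.1, Subgroup.zpowers_one_eq_bot, le_bot_iff] at hle
    rw [hle, Subgroup.card_bot] at hcard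
    omega
  · obtain ⟨h1, h2, h3, h4, hN⟩ := mFive_check
    obtain ⟨cv, hle, h0, -⟩ := cert_bound mFive mFiveW mFiveT mFiveB mFiveK mFiveP mFiveS mFive_tbls h1
      mFive_tab h2 h3 h4 mFive_form (by rw [mFive_bound.2, hN]; decide +kernel) π hπ hc hd
      (by rw [mFive_bound.2]; exact hexp)
    rw [h0 mFive_bound.1, Subgroup.zpowers_one_eq_bot, le_bot_iff] at hle
    rw [hle, Subgroup.card_bot] at hcard
    omega

theorem noKer_nine : NoKer ↥SM (3 ^ 2) := by
  intro E _ _ π hπ hc hd hcard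
  have hexp : ∀ z ∈ π.ker, z ^ 9 = 1 := fun z hz => by
    have h := pow_card_eq_one' (x := (⟨z, hz⟩ : π.ker))
    rw [hcard] at h
    simpa [Subtype.ext_iff] using h
  obtain ⟨h1, h2, h3, h4, hN⟩ := mThree_check
  obtain ⟨cv, hle, -, h0⟩ := cert_bound mThree mThreeW mThreeT mThreeB mThreeK mThreeP mThreeS
    mThree_tbls h1 mThree_tab h2 h3 h4 mThree_form (by rw [mThree_bound.2, hN]; decide +kernel)
    π hπ hc hd (by rw [mThree_bound.2]; exact hexp)
  have hcard2 := Subgroup.card_le_of_le hle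
  rw [Nat.card_zpowers, hcard] at hcard2
  have := orderOf_le_of_pow_eq_one (by norm_num) (h0 3 mThree_bound.1)
  omega

/-- Stem kernels have order one or three. -/
theorem card_ker {Γ : Type} [Group Γ] [Finite Γ] (π : Γ →* ↥SM) (hπ : Function.Surjective π)
    (hc : π.ker ≤ Subgroup.center Γ) (hd : π.ker ≤ commutator Γ) :
    Nat.card π.ker = 1 ∨ Nat.card π.ker = 3 :=
  haveI := finite_SM
  card_ker_le_prime Nat.prime_three noKer_prime noKer_nine π hπ hc hd

end Cfsg.Agent.MultMcL
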