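import Cfsg.Agent.Lib.LeechCount.McLPoint.Unitary
import Cfsg.Agent.Lib.MultU43.Group
import Cfsg.Agent.Lib.MultMcL.LowData

/-!
The identification of a point stabiliser with the projective special unitary group, with the images
of two generators as codes.
-/

set_option autoImplicit false

namespace Cfsg.Agent.MultMcL

open Cfsg Cfsg.Agent.Leech Cfsg.Agent.Golay24 Cfsg.Agent.LeechCount Cfsg.Agent.LeechCount.Co3Rank
open Cfsg.Agent.LeechCount.Co3Out Cfsg.Agent.LeechCount.McLInv Cfsg.Agent.LeechCount.McLPoint MulAction Matrix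

noncomputable section

attribute [local irreducible] normFS dotFS

theorem h_mem : ∀ n : Fin 2, (if n = 0 then h1 else h2) ∈ PS := fun n => HP_eq.1 ▸ Subgroup.subset_closure (by
  by_cases h : n = 0 <;> simp [h])

/-- The matrices over the packed model. -/
def mkM (n : Fin 2) : MultU43.Mk := fun i j => ⟨(matK n i j).re, (matK n i j).im⟩

theorem mkM_code : ∀ n : Fin 2, MultU43.codeK (mkM n) = hCode.getD n.val [] := by decide +kernel

set_option maxHeartbeats 1000000 in
-- a long construction
theorem exists_psi (F : Type) [Field F] [Fintype F] (hF : Fintype.card F = 9) :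
    ∃ (ι : MultU43.Iso F) (φ : ↥PS ≃* PSU 4 F 3), ∀ n : Fin 2, ∃ s : MultU43.S F,
      QuotientGroup.mk s = φ ⟨_, h_mem n⟩ ∧
        MultU43.code ι (MultU43.mat s) = hCode.getD n.val [] := by
  classical
  obtain ⟨e, hinj, hadd⟩ := exists_hom F hF
  have : AutPSU.QField F 3 := AutPSU.QField.of_card (hF.trans (by norm_num))
  have : Finite ↥PS := inferInstance
  let S : Fin 2 → ↥(SU 4 F 3) := fun n => ⟨⟨(matK n).map e, by
      rw [← RingHom.mapMatrix_apply, ← RingHom.map_det, det_ok, map_one]⟩,
    mem_SU_of_gram hadd fun j k => by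
      show (∑ i, e (matK n i j) * e (matK n i k) ^ 3) = _
      simp only [← map_pow, ← map_mul, ← map_sum, gram_ok]
      split <;> simp⟩
  have hh : ∀ n : Fin 2, (if n = 0 then h1 else h2) ∈ PS := fun n => HP_eq.1 ▸ Subgroup.subset_closure (by
    by_cases h : n = 0 <;> simp [h])
  let Hn : Fin 2 → ↥PS := fun n => ⟨_, hh n⟩
  let Gam : Subgroup (↥PS × ↥(SU 4 F 3)) := Subgroup.closure (Set.range fun n => (Hn n, S n))
  have hgen : ∀ n, Compat e (if n = 0 then h1 else h2) ((matK n).map e) := fun n => ⟨pmN n, fun j => by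
    refine ⟨?_, ?_, ?_⟩
    · obtain ⟨p1, p2⟩ := pm_ok j
      by_cases h : n = 0
      · subst h
        rw [if_pos rfl, xj, xj, (acts_h1 _ (pts112_lt j)).2, p1]
      · have h1' : n = 1 := by omega
        subst h1'
        rw [if_neg h, xj, xj, (acts_h2 _ (pts112_lt j)).2, p2]
    all_goals
      rw [show ((matK n).map e *ᵥ fun i => e _) = fun i => e ((matK n *ᵥ _) i) from
        funext fun i => (RingHom.map_mulVec e (matK n) _ i).symm]
    exacts [InLine.of_K (lines_ok n j).1, InLine.of_K (lines_ok n j).2]⟩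
  have hcompat : ∀ x ∈ Gam, Compat e (x.1 : ↥G3) x.2.1.1 := by
    have hpow : ∀ x : ↥PS × ↥(SU 4 F 3), Compat e (x.1 : ↥G3) x.2.1.1 → ∀ m : ℕ,
        Compat e ((x ^ m).1 : ↥G3) (x ^ m).2.1.1 := by
      intro x hx m
      induction m with
      | zero => simpa using Compat.one e
      | succ m ih => rw [pow_succ]; exact ih.mul hx
    intro x hx
    induction hx using Subgroup.closure_induction with
    | mem x hx => obtain ⟨n, rfl⟩ := hx; exact hgen n
    | one => exact Compat.one e
    | mul x y _ _ hx hy => exact hx.mul hy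
    | inv x _ hx =>
      have h2 : x⁻¹ = x ^ (orderOf x - 1) := by
        refine (eq_inv_of_mul_eq_one_left ?_).symm
        rw [← pow_succ, Nat.sub_add_cancel (orderOf_pos x), pow_orderOf_eq_one]
      rw [h2]
      exact hpow x hx _
  let pr : ↥PS × ↥(SU 4 F 3) →* ↥PS × PSU 4 F 3 :=
    (MonoidHom.id _).prodMap (QuotientGroup.mk' (Subgroup.center (SU 4 F 3)))
  let P := Gam.map pr
  let f1 : ↥P →* ↥PS := (MonoidHom.fst _ _).comp P.subtype
  let f2 : ↥P →* PSU 4 F 3 := (MonoidHom.snd _ _).comp P.subtype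
  have hs1 : Function.Surjective f1 := by
    rw [← MonoidHom.range_eq_top]
    apply Subgroup.map_injective PS.subtype_injective
    rw [← MonoidHom.range_eq_map PS.subtype, Subgroup.range_subtype]
    refine le_antisymm (Subgroup.map_subtype_le _) ?_
    conv_lhs => rw [← HP_eq.1, HP]
    rw [Subgroup.closure_le]
    rintro g (rfl | rfl)
    · exact ⟨Hn 0, ⟨⟨pr (Hn 0, S 0), Subgroup.mem_map_of_mem pr (Subgroup.subset_closure ⟨0, rfl⟩)⟩, rfl⟩, rfl⟩
    · exact ⟨Hn 1, ⟨⟨pr (Hn 1, S 1), Subgroup.mem_map_of_mem pr (Subgroup.subset_closure ⟨1, rfl⟩)⟩, rfl⟩, rfl⟩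
  have hi2 : Function.Injective f2 := (injective_iff_map_eq_one f2).2 fun x hx => by
    obtain ⟨⟨g, s⟩, hgam, hgs⟩ := Subgroup.mem_map.1 x.2
    have hz : s ∈ Subgroup.center (SU 4 F 3) := by
      rw [← QuotientGroup.eq_one_iff]
      have h' : QuotientGroup.mk' (Subgroup.center (SU 4 F 3)) s = x.1.2 := congrArg Prod.snd hgs
      rw [show x.1.2 = 1 from hx] at h'
      exact h'
    obtain ⟨c, hc⟩ := AutPSU.scalar_of_mem_center (q := 3) (by norm_num) hz
    obtain ⟨σ, hσ⟩ := hcompat _ hgam
    have hfix : ∀ j, σ j = j := fun j => by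
      obtain ⟨-, hA', hB'⟩ := hσ j
      have hc0 : c ≠ 0 := by
        intro h0
        have hd : s.1.1.det = 1 := s.1.2
        have hzero : s.1.1 = 0 := Matrix.ext_of_mulVec_single fun i => by
          have := hc (Pi.single i 1)
          rw [h0, zero_smul] at this
          rw [Matrix.zero_mulVec]; exact this
        rw [hzero, Matrix.det_zero] at hd
        exact zero_ne_one hd
      have down : ∀ w : Fin 4 → K9, InLine e (σ j) (s.1.1 *ᵥ fun i => e (w i)) → inLineK (σ j) w = true := by
        intro w hw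
        simp only [inLineK, List.all_eq_true, decide_eq_true_eq]
        intro i _
        apply hinj
        have := hw i
        rw [show s.1.1 *ᵥ (fun i => e (w i)) = c • fun i => e (w i) from hc _] at this
        simp only [Pi.smul_apply, smul_eq_mul, mul_assoc, ← mul_add] at this
        simp only [map_add, map_mul]
        exact mul_left_cancel₀ hc0 this
      exact (lines_distinct j (σ j) (down _ hA') (down _ hB')).symm
    have hg1 : g = 1 := Subtype.ext (eq_one_of_fix g.2 fun j => by rw [(hσ j).1, hfix j])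
    refine Subtype.ext (Prod.ext ?_ hx)
    rw [← hgs]
    show g = 1
    exact hg1
  have hcardPS : Nat.card ↥PS = 3265920 := HP_eq.2
  have hcardPSU := card_psu F hF
  have : Finite (PSU 4 F 3) := Nat.finite_of_card_ne_zero (by rw [hcardPSU]; norm_num)
  have c1 := Nat.card_le_card_of_surjective f1 hs1
  have c2 := Nat.card_le_card_of_injective f2 hi2
  have hb1 : Function.Bijective f1 := (Nat.bijective_iff_surjective_and_card f1).2 ⟨hs1, by omega⟩
  have hb2 : Function.Bijective f2 := (Nat.bijective_iff_injective_and_card f2).2 ⟨hi2, by omega⟩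
  let φ := (MulEquiv.ofBijective f1 hb1).symm.trans (MulEquiv.ofBijective f2 hb2)
  have hinj' : Function.Injective (fun x : MultU43.K9 => e (⟨x.re, x.im⟩ : K9)) := fun x y h => by
    have h' := hinj h
    cases x; cases y
    simp only [QuadraticAlgebra.mk.injEq] at h'
    simp [h'.1, h'.2]
  let eq9 := Equiv.ofBijective _ ((Fintype.bijective_iff_injective_and_card
    (fun x : MultU43.K9 => e (⟨x.re, x.im⟩ : K9))).2 ⟨hinj', by rw [hF]; rfl⟩)
  have kadd : ∀ x y : MultU43.K9, (⟨(MultU43.K9.add x y).re, (MultU43.K9.add x y).im⟩ : K9) =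
      ⟨x.re, x.im⟩ + ⟨y.re, y.im⟩ := by decide +kernel
  have kmul : ∀ x y : MultU43.K9, (⟨(MultU43.K9.mul x y).re, (MultU43.K9.mul x y).im⟩ : K9) =
      ⟨x.re, x.im⟩ * ⟨y.re, y.im⟩ := by decide +kernel
  have kcube : ∀ x : MultU43.K9, (⟨x.conj.re, x.conj.im⟩ : K9) = ⟨x.re, x.im⟩ ^ 3 := by decide +kernel
  let ι : MultU43.Iso F :=
    { φ := eq9
      add := fun x y => (congrArg e (kadd x y)).trans (map_add e _ _)
      mul := fun x y => (congrArg e (kmul x y)).trans (map_mul e _ _)
      zero := map_zero e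
      one := map_one e
      cube := fun x => (congrArg e (kcube x)).trans (map_pow e _ _) }
  refine ⟨ι, φ, fun n => ⟨S n, ?_, ?_⟩⟩
  · have hx : pr (Hn n, S n) ∈ P := Subgroup.mem_map_of_mem pr (Subgroup.subset_closure ⟨n, rfl⟩)
    have e1 : MulEquiv.ofBijective f1 hb1 ⟨_, hx⟩ = Hn n := rfl
    show _ = MulEquiv.ofBijective f2 hb2 ((MulEquiv.ofBijective f1 hb1).symm (Hn n))
    rw [← e1, MulEquiv.symm_apply_apply]
    rfl
  · rw [MultU43.code, ← mkM_code]
    refine congrArg MultU43.codeK (funext fun i => funext fun j => ?_)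
    refine eq9.symm_apply_eq.2 ?_
    show e (matK n i j) = e ⟨(matK n i j).re, (matK n i j).im⟩
    rfl

end

end Cfsg.Agent.MultMcL
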