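import Cfsg.Agent.Lib.StemCert.Cor

/-!
The commutator of the lifts of two commuting elements of order three in a corestricted extension
only depends on their common fixed cosets.
-/

set_option autoImplicit false

namespace Cfsg.Agent.MultMcL

open Cfsg.Agent.StemCert

universe u

variable {G : Type u} [Group G] {D : Cor.Datum G 3}

/-- The extension of the subgroup. -/
@[ext] structure BE (D : Cor.Datum G 3) : Type u where
  /-- image -/
  v : D.B
  /-- central part -/
  z : ZMod 3

noncomputable instance : Group (BE D) where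
  mul x y := ⟨x.v * y.v, x.z + y.z + D.c x.v y.v⟩
  one := ⟨1, 0⟩
  inv x := ⟨x.v⁻¹, -x.z - D.c (x.v⁻¹ : D.B) x.v⟩
  mul_assoc x y w := by
    refine BE.ext (mul_assoc _ _ _) ?_
    show x.z + y.z + D.c x.v y.v + w.z + D.c (x.v.1 * y.v.1) w.v =
      x.z + (y.z + w.z + D.c y.v w.v) + D.c x.v (y.v.1 * w.v.1)
    linear_combination (norm := abel) D.cocycle _ x.v.2 _ y.v.2 _ w.v.2
  one_mul x := by
    refine BE.ext (one_mul _) ?_
    show 0 + x.z + D.c 1 x.v = x.z
    rw [D.one_left _ x.v.2, zero_add, add_zero]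
  mul_one x := by
    refine BE.ext (mul_one _) ?_
    show x.z + 0 + D.c x.v 1 = x.z
    rw [D.one_right _ x.v.2, add_zero, add_zero]
  inv_mul_cancel x := by
    refine BE.ext (inv_mul_cancel _) ?_
    show -x.z - D.c (x.v⁻¹ : D.B) x.v + x.z + D.c (x.v⁻¹ : D.B) x.v = 0
    abel

/-- A central element. -/
def Zc (D : Cor.Datum G 3) (t : ZMod 3) : BE D := ⟨1, t⟩

theorem Zc_comm (t : ZMod 3) (x : BE D) : Zc D t * x = x * Zc D t := by
  refine BE.ext (by show 1 * x.v = x.v * 1; simp) ?_
  show t + x.z + D.c (1 : G) x.v = x.z + t + D.c x.v (1 : G)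
  rw [D.one_left _ x.v.2, D.one_right _ x.v.2, add_comm t]

theorem Zc_mul (t t' : ZMod 3) : Zc D t * Zc D t' = Zc D (t + t') := by
  refine BE.ext (one_mul 1) ?_
  show t + t' + D.c (1 : G) (1 : G) = t + t'
  rw [D.one_left _ D.B.one_mem, add_zero]

theorem Zc_inj {t t' : ZMod 3} {x : BE D} (h : Zc D t * x = Zc D t' * x) : t = t' :=
  congrArg BE.z (mul_right_cancel h)

variable [Finite G]

/-- The lift of a coordinate. -/
noncomputable def L (D : Cor.Datum G 3) (g : G) (x : G ⧸ D.B) : BE D :=
  ⟨⟨Cor.mon D g x, Cor.mon_mem D g x⟩, 0⟩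

/-- The local commutator. -/
noncomputable def floc (D : Cor.Datum G 3) (a b : G) (x : G ⧸ D.B) : ZMod 3 :=
  D.c (Cor.mon D a (b • x)) (Cor.mon D b x) - D.c (Cor.mon D b (a • x)) (Cor.mon D a x)

theorem L_swap {a b : G} (hab : a * b = b * a) (x : G ⧸ D.B) :
    L D a (b • x) * L D b x = Zc D (floc D a b x) * (L D b (a • x) * L D a x) := by
  refine BE.ext (Subtype.ext ?_) ?_
  · show Cor.mon D a (b • x) * Cor.mon D b x = 1 * (Cor.mon D b (a • x) * Cor.mon D a x)
    rw [one_mul, ← Cor.mon_mul, ← Cor.mon_mul, hab]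
  · show 0 + 0 + D.c (Cor.mon D a (b • x)) (Cor.mon D b x) =
      floc D a b x + (0 + 0 + D.c (Cor.mon D b (a • x)) (Cor.mon D a x)) + D.c (1 : G) _
    rw [D.one_left _ (L D b (a • x) * L D a x).v.2]
    simp only [floc]
    abel

/-- The product around a cycle. -/
noncomputable def loop (D : Cor.Datum G 3) (a : G) (x : G ⧸ D.B) : BE D :=
  L D a (a • a • x) * L D a (a • x) * L D a x

/-- Its central value. -/
noncomputable def lval (D : Cor.Datum G 3) (a : G) (x : G ⧸ D.B) : ZMod 3 := (loop D a x).z

theorem cube_smul {a : G} (ha : a ^ 3 = 1) (x : G ⧸ D.B) : a • a • a • x = x := by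
  rw [smul_smul, smul_smul, show a * a * a = a ^ 3 by simp [pow_succ, pow_zero], ha, one_smul]

theorem loop_eq {a : G} (ha : a ^ 3 = 1) (x : G ⧸ D.B) : loop D a x = Zc D (lval D a x) := by
  refine BE.ext (Subtype.ext ?_) rfl
  show Cor.mon D a (a • a • x) * Cor.mon D a (a • x) * Cor.mon D a x = 1
  rw [mul_assoc, ← Cor.mon_mul, show a • a • x = (a * a) • x from smul_smul a a x, ← Cor.mon_mul,
    show a * (a * a) = a ^ 3 by simp [pow_succ, pow_zero, mul_assoc], ha, Cor.mon_one]

theorem lval_smul {a : G} (ha : a ^ 3 = 1) (x : G ⧸ D.B) : lval D a (a • x) = lval D a x := by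
  have h : loop D a (a • x) = L D a x * loop D a x * (L D a x)⁻¹ := by
    rw [loop, loop, cube_smul ha]
    group
  rw [loop_eq ha, loop_eq ha, ← Zc_comm, mul_inv_cancel_right] at h
  have h0 := congrArg BE.z h
  exact h0

theorem cycle_sum {a b : G} (hab : a * b = b * a) (ha : a ^ 3 = 1) (x : G ⧸ D.B) :
    floc D a b x + floc D a b (a • x) + floc D a b (a • a • x) =
      lval D a (b • x) - lval D a x := by
  have hc : ∀ y : G ⧸ D.B, b • a • y = a • b • y := fun y => by rw [smul_smul, smul_smul, hab]
  have h1 := L_swap (D := D) hab x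
  have h2 := L_swap (D := D) hab (a • x)
  have h3 := L_swap (D := D) hab (a • a • x)
  rw [hc] at h2
  rw [hc, hc, cube_smul ha] at h3
  have key : loop D a (b • x) * L D b x =
      Zc D (floc D a b x + floc D a b (a • x) + floc D a b (a • a • x)) * (L D b x * loop D a x) := by
    rw [loop, mul_assoc, h1, ← mul_assoc, ← Zc_comm, mul_assoc, mul_assoc (L D a _) (L D a _),
      ← mul_assoc (L D a (a • b • x)), h2, mul_assoc (Zc D (floc D a b (a • x))),
      ← mul_assoc (L D a (a • a • b • x)), ← Zc_comm, mul_assoc, ← mul_assoc (L D a (a • a • b • x)),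
      ← mul_assoc (L D a (a • a • b • x)), h3]
    rw [← Zc_mul, ← Zc_mul]
    simp only [loop, mul_assoc]
  rw [loop_eq ha, loop_eq ha, ← Zc_comm (lval D a x) (L D b x), ← mul_assoc, Zc_mul] at key
  have := Zc_inj key
  rw [this]
  abel

variable (D)

/-- The marker of one point in each cycle of length three. -/
noncomputable def mark (a : G) (x : G ⧸ D.B) : ZMod 3 :=
  if Finite.equivFin (G ⧸ D.B) x < Finite.equivFin (G ⧸ D.B) (a • x) ∧
      Finite.equivFin (G ⧸ D.B) x < Finite.equivFin (G ⧸ D.B) (a • a • x) then 1 else 0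

theorem mark_sum {a : G} (ha : a ^ 3 = 1) {x : G ⧸ D.B} (hx : a • x ≠ x) :
    mark D a x + mark D a (a • x) + mark D a (a • a • x) = 1 := by
  have e3 := cube_smul (D := D) ha
  have n1 : Finite.equivFin (G ⧸ D.B) (a • x) ≠ Finite.equivFin (G ⧸ D.B) x :=
    fun h => hx ((Finite.equivFin _).injective h)
  have n2 : Finite.equivFin (G ⧸ D.B) (a • a • x) ≠ Finite.equivFin (G ⧸ D.B) (a • x) :=
    fun h => hx (smul_left_cancel a ((Finite.equivFin _).injective h))
  have n3 : Finite.equivFin (G ⧸ D.B) (a • a • x) ≠ Finite.equivFin (G ⧸ D.B) x := fun h => by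
    have h' := (Finite.equivFin _).injective h
    exact hx (by conv_rhs => rw [← e3 x, h'])
  simp only [mark, e3]
  generalize Finite.equivFin (G ⧸ D.B) x = p at *
  generalize Finite.equivFin (G ⧸ D.B) (a • x) = q at *
  generalize Finite.equivFin (G ⧸ D.B) (a • a • x) = r at *
  rcases lt_or_gt_of_ne n1 with h1 | h1 <;> rcases lt_or_gt_of_ne n2 with h2 | h2 <;>
    rcases lt_or_gt_of_ne n3 with h3 | h3 <;>
    simp [h1, h2, h3, h1.not_gt, h2.not_gt, h3.not_gt] <;> order

/-- Summation over the cycles. -/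
theorem sum_cycles [Fintype (G ⧸ D.B)] {a : G} (ha : a ^ 3 = 1) (h : G ⧸ D.B → ZMod 3)
    (h0 : ∀ x, a • x = x → h x = 0) :
    ∑ x, h x = ∑ x, mark D a x * (h x + h (a • x) + h (a • a • x)) := by
  have e : ∀ x, h x = mark D a x * h x + mark D a (a • x) * h x + mark D a (a • a • x) * h x := by
    intro x
    by_cases hx : a • x = x
    · simp [h0 x hx]
    · rw [← add_mul, ← add_mul, mark_sum D ha hx, one_mul]
  conv_lhs => arg 2; ext x; rw [e x]
  simp only [mul_add, Finset.sum_add_distrib]
  have r1 : ∑ x, mark D a (a • x) * h x = ∑ x, mark D a x * h (a • a • x) := by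
    refine (Equiv.sum_comp (MulAction.toPerm (α := G) (β := G ⧸ D.B) (a * a)) _).symm.trans ?_
    refine Finset.sum_congr rfl fun x _ => ?_
    simp only [MulAction.toPerm_apply, ← smul_smul, cube_smul ha]
  have r2 : ∑ x, mark D a (a • a • x) * h x = ∑ x, mark D a x * h (a • x) := by
    refine (Equiv.sum_comp (MulAction.toPerm (α := G) (β := G ⧸ D.B) a) _).symm.trans ?_
    refine Finset.sum_congr rfl fun x _ => ?_
    simp only [MulAction.toPerm_apply, cube_smul ha]
  rw [r1, r2]
  abel

/-- The commutator only sees the common fixed points. -/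
theorem pairing_fixed [Fintype (G ⧸ D.B)] [DecidableEq (G ⧸ D.B)] {a b : G} (hab : a * b = b * a)
    (ha : a ^ 3 = 1) (hb : b ^ 3 = 1) :
    Cor.cor D a b - Cor.cor D b a =
      ∑ x : G ⧸ D.B, if a • x = x ∧ b • x = x then floc D a b x else 0 := by
  have hs : Cor.cor D a b - Cor.cor D b a = ∑ x : G ⧸ D.B, floc D a b x := by
    simp only [Cor.cor, floc, ← Finset.sum_sub_distrib]
    exact Finset.sum_congr (by ext; simp) fun x _ => rfl
  rw [hs]
  have hsplit : ∀ x : G ⧸ D.B, floc D a b x = (if a • x = x then 0 else floc D a b x) +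
      ((if a • x = x ∧ b • x = x then floc D a b x else 0) +
        (if a • x = x ∧ ¬ b • x = x then floc D a b x else 0)) := by
    intro x
    by_cases h1 : a • x = x <;> by_cases h2 : b • x = x <;> simp [h1, h2]
  conv_lhs => arg 2; ext x; rw [hsplit x]
  rw [Finset.sum_add_distrib, Finset.sum_add_distrib]
  have hcomm : ∀ y : G ⧸ D.B, a • b • y = b • a • y := fun y => by rw [smul_smul, smul_smul, hab]
  have z1 : ∑ x : G ⧸ D.B, (if a • x = x then 0 else floc D a b x) = 0 := by
    rw [sum_cycles D ha _ (fun x hx => if_pos hx)]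
    have e : ∀ x, mark D a x * ((if a • x = x then 0 else floc D a b x) +
        (if a • a • x = a • x then 0 else floc D a b (a • x)) +
        (if a • a • a • x = a • a • x then 0 else floc D a b (a • a • x))) =
        (if a • x = x then 0 else mark D a x) * (lval D a (b • x) - lval D a x) := by
      intro x
      by_cases hx : a • x = x
      · simp [hx]
      · have h1 : ¬ a • a • x = a • x := fun h => hx (smul_left_cancel a h)
        have h2 : ¬ a • a • a • x = a • a • x := fun h => h1 (smul_left_cancel a h)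
        simp only [hx, h1, h2, if_false, cycle_sum hab ha]
    rw [Finset.sum_congr rfl fun x _ => e x]
    let w : G ⧸ D.B → ZMod 3 := fun x => if a • x = x then 0 else mark D a x
    show ∑ x, w x * (lval D a (b • x) - lval D a x) = 0
    simp only [mul_sub, Finset.sum_sub_distrib]
    have hr : ∑ x, w x * lval D a (b • x) = ∑ y, w (b⁻¹ • y) * lval D a y := by
      refine (Equiv.sum_comp (MulAction.toPerm (α := G) (β := G ⧸ D.B) b⁻¹) _).symm.trans ?_
      simp only [MulAction.toPerm_apply, smul_inv_smul]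
    rw [hr, ← Finset.sum_sub_distrib]
    simp only [← sub_mul]
    rw [sum_cycles D ha _ (fun x hx => ?_)]
    · refine Finset.sum_eq_zero fun x _ => ?_
      by_cases hx : a • x = x
      · have hbx : a • b⁻¹ • x = b⁻¹ • x := by
          rw [eq_inv_smul_iff, ← hcomm, smul_inv_smul, hx]
        simp [w, hx, hbx]
      · have hw : ∀ y : G ⧸ D.B, a • y ≠ y → w y + w (a • y) + w (a • a • y) = 1 := fun y hy => by
          have h1 : ¬ a • a • y = a • y := fun h => hy (smul_left_cancel a h)
          have h2 : ¬ a • a • a • y = a • a • y := fun h => h1 (smul_left_cancel a h)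
          simp only [w, hy, h1, h2, if_false]
          exact mark_sum D ha hy
        have hb' : a • b⁻¹ • x ≠ b⁻¹ • x := fun h => hx (by
          have := congrArg (b • ·) h
          simpa [← hcomm] using this)
        have hcm : ∀ y : G ⧸ D.B, b⁻¹ • a • y = a • b⁻¹ • y := fun y => by
          rw [inv_smul_eq_iff, ← hcomm, smul_inv_smul]
        simp only [lval_smul ha, hcm, ← add_mul]
        have e1 := hw x hx
        have e2 := hw _ hb'
        linear_combination (mark D a x * lval D a x) * (e2 - e1)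
    · have hbx : a • b⁻¹ • x = b⁻¹ • x := by
        rw [eq_inv_smul_iff, ← hcomm, smul_inv_smul, hx]
      simp [w, hx, hbx]
  have z2 : ∑ x : G ⧸ D.B, (if a • x = x ∧ ¬ b • x = x then floc D a b x else 0) = 0 := by
    rw [sum_cycles D hb _ (fun x hx => if_neg fun h => h.2 hx)]
    refine Finset.sum_eq_zero fun x _ => ?_
    by_cases hx : a • x = x
    · by_cases hbx : b • x = x
      · simp [hbx]
      · have h1 : ¬ b • b • x = b • x := fun h => hbx (smul_left_cancel b h)
        have h2 : ¬ b • b • b • x = b • b • x := fun h => h1 (smul_left_cancel b h)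
        have g1 : a • b • x = b • x := by rw [hcomm, hx]
        have g2 : a • b • b • x = b • b • x := by rw [hcomm, g1]
        simp only [hx, hbx, h1, h2, g1, g2, not_false_eq_true, and_self, if_true]
        have hneg : ∀ y, floc D b a y = -floc D a b y := fun y => by simp [floc]
        have := cycle_sum (D := D) hab.symm hb x
        rw [hx, sub_self, hneg, hneg, hneg] at this
        linear_combination (-mark D b x) * this
    · have g1 : ¬ a • b • x = b • x := fun h => hx (smul_left_cancel b (by rwa [← hcomm]))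
      have g2 : ¬ a • b • b • x = b • b • x := fun h => g1 (smul_left_cancel b (by rwa [← hcomm]))
      simp [hx, g1, g2]
  rw [z1, z2, zero_add, add_zero]

end Cfsg.Agent.MultMcL
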