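import Cfsg.Agent.Lib.MultMcL.LowChecks
import Cfsg.Agent.Lib.MultMcL.Vanish
import Cfsg.Agent.Lib.MultMcL.Hom
import Cfsg.Agent.Lib.MultMcL.Bound
import Cfsg.Agent.Lib.MultU43.Cover
import Cfsg.Agent.Lib.LeechCount.McLPoint.Main

/-!
A triple stem cover of the stabiliser of the pair: the corestriction of a class of a point
stabiliser.
-/

set_option autoImplicit false
set_option maxRecDepth 20000
set_option synthInstance.maxHeartbeats 400000
set_option maxHeartbeats 1000000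

namespace Cfsg.Agent.MultMcL

open Cfsg Cfsg.Agent.Leech Cfsg.Agent.Golay24 Cfsg.Agent.LeechCount Cfsg.Agent.LeechCount.Co3Rank
open Cfsg.Agent.LeechCount.Co3Out Cfsg.Agent.LeechCount.McLInv Cfsg.Agent.LeechCount.McLPoint
open Cfsg.Agent.StemCert

noncomputable section

attribute [local irreducible] normFS dotFS

/-- A point stabiliser. -/
def BP : Subgroup ↥SM := PS.subgroupOf SM

theorem mem_BP {g : ↥SM} : g ∈ BP ↔ ap ((g : ↥G3) : ↥Co0) (ptV 1) = ptV 1 := by
  show (g : ↥G3) ∈ SM ⊓ fixSub [1] ↔ _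
  constructor
  · intro h
    exact h.2 1 (by simp) (by norm_num)
  · intro h
    refine ⟨g.2, fun b hb _ => ?_⟩
    rw [List.mem_singleton] at hb
    subst hb
    exact h

/-- A generator of the point stabiliser. -/
def hGen (k : ℕ) : ↥PS := ⟨if Fin.ofNat 2 k = 0 then h1 else h2, h_mem _⟩

/-- The element of a word in the generators. -/
def hEl (w : List ℕ) : ↥PS := (w.map hGen).prod

theorem hEl_acts : ∀ w : List ℕ, (∀ k ∈ w, k < 2) → Acts (hEl w : ↥G3) (run hTs w)
  | [], _ => Acts.one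
  | k :: w, hw => by
    have ih := hEl_acts w fun j hj => hw j (List.mem_cons_of_mem _ hj)
    have hk : Acts (hGen k : ↥G3) (lk (hTs.getD k 0)) := by
      have := hw k List.mem_cons_self
      interval_cases k
      exacts [acts_h1, acts_h2]
    rw [hEl, List.map_cons, List.prod_cons, Subgroup.coe_mul]
    exact hk.mul ih

/-- The coset representative of a fixed point. -/
def path (n : Fin 5) : ↥SM := el (pathW.getD n.val [])

/-- The two elements. -/
def pe (k : ℕ) : ↥SM := gEl pairW k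

theorem pair_facts :
    pe 0 * pe 1 = pe 1 * pe 0 ∧ pe 0 ^ 3 = 1 ∧ pe 1 ^ 3 = 1 := by
  have h := pair_ok
  simp only [pairOk, Bool.and_eq_true] at h
  obtain ⟨⟨⟨⟨⟨ht, hc⟩, h0⟩, h1⟩, -⟩, -⟩ := h
  have hl : pairW.length = 2 := rfl
  refine ⟨?_, ?_, ?_⟩
  · simpa [pe] using eq_of_sameOn ht (u := [0, 1]) (v := [1, 0]) (by simp [hl]) (by simp [hl]) hc
  · simpa [pe, pow_succ, mul_assoc] using
      eq_of_sameOn ht (u := [0, 0, 0]) (v := []) (by simp [hl]) (by simp) h0
  · simpa [pe, pow_succ, mul_assoc] using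
      eq_of_sameOn ht (u := [1, 1, 1]) (v := []) (by simp [hl]) (by simp) h1

theorem pe_acts {k : ℕ} (hk : k < 2) : Acts (pe k : ↥G3) (lk (pairT.getD k 0)) := by
  have h := pair_ok
  simp only [pairOk, Bool.and_eq_true] at h
  obtain ⟨⟨⟨⟨⟨ht, -⟩, -⟩, -⟩, -⟩, -⟩ := h
  have := run_acts ht [k] (fun j hj => by rw [List.mem_singleton.1 hj]; exact hk)
  rw [List.map_singleton, List.prod_singleton] at this
  exact this

/-- The local element. -/
def locEl (j : ℕ) : ↥PS := hEl (locW.getD j [])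

theorem locEl_acts {j : ℕ} (hj : j < 10) : Acts (locEl j : ↥G3) (lk (locT.getD j 0)) := by
  have h := locTbl_ok
  simp only [locTblOk, Bool.and_eq_true, List.all_eq_true, List.mem_range, Nat.blt_eq] at h
  obtain ⟨⟨hlen, hw⟩, ht⟩ := h
  refine (hEl_acts _ fun k hk => ?_).congr fun i hi => Nat.eq_of_beq_eq_true (ht j hj i hi)
  refine hw _ ?_ k hk
  rw [List.getD_eq_getElem _ _ (by rw [Nat.eq_of_beq_eq_true hlen]; exact hj)]
  exact List.getElem_mem _

/-- An element of the point stabiliser inside the stabiliser of the pair. -/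
def inc (x : ↥PS) : ↥SM := ⟨(x : ↥G3), x.2.1⟩

theorem point_spec (n : Fin 5) :
    (locI.getD n.val (0, 0)).1 < 10 ∧ (locI.getD n.val (0, 0)).2 < 10 ∧
      pe 0 * path n = path n * inc (locEl (locI.getD n.val (0, 0)).1) ∧
      pe 1 * path n = path n * inc (locEl (locI.getD n.val (0, 0)).2) ∧
      ap ((path n : ↥G3) : ↥Co0) (ptV 1) = ptV (orb275.getD (fixPts.getD n.val 0) 0) ∧
      ∀ m : Fin 5, ap ((path n : ↥G3) : ↥Co0) (ptV 1) = ap ((path m : ↥G3) : ↥Co0) (ptV 1) → n = m := by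
  have h := pair_ok
  simp only [pairOk, Bool.and_eq_true, List.all_eq_true, List.mem_range, Nat.blt_eq, Bool.or_eq_true,
    Bool.not_eq_true'] at h
  obtain ⟨-, hp⟩ := h
  obtain ⟨⟨⟨⟨l1, l2⟩, ho⟩, hd⟩, hi⟩ := hp n.val n.2
  have hg : ∀ m : Fin 5, Acts (path m : ↥G3) (wordFn ((pathW.getD m.val []).map fl)) := fun m =>
    acts_word _
  have h1 := (hg n 1 (by norm_num))
  refine ⟨l1, l2, ?_, ?_, ?_, fun m hm => ?_⟩
  · exact Subtype.ext (acts_inj ((pe_acts (by norm_num)).mul (hg n))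
      (((hg n).mul (locEl_acts l1)).congr fun i hi' => Nat.eq_of_beq_eq_true (hi i hi').1))
  · exact Subtype.ext (acts_inj ((pe_acts (by norm_num)).mul (hg n))
      (((hg n).mul (locEl_acts l2)).congr fun i hi' => Nat.eq_of_beq_eq_true (hi i hi').2))
  · rw [h1.2, Nat.eq_of_beq_eq_true ho]
  · have h2 := (hg m 1 (by norm_num))
    rw [h1.2, h2.2] at hm
    have he := McLInv.ptV_inj h1.1 h2.1 hm
    rcases hd m.val m.2 with e | e
    · exact Fin.ext (Nat.eq_of_beq_eq_true e)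
    · rw [he, Nat.beq_refl] at e
      exact absurd e (by decide)

theorem mk_eq_iff {g h : ↥SM} : (QuotientGroup.mk g : ↥SM ⧸ BP) = QuotientGroup.mk h ↔
    ap ((g : ↥G3) : ↥Co0) (ptV 1) = ap ((h : ↥G3) : ↥Co0) (ptV 1) := by
  rw [QuotientGroup.eq, mem_BP, Subgroup.coe_mul, Subgroup.coe_mul,
    ap_mul _ _ (ptV_mem (by norm_num))]
  constructor
  · intro e
    have e2 := congrArg (ap ((g : ↥G3) : ↥Co0)) e
    have hh := ap_mem ((h : ↥G3) : ↥Co0) (ptV_mem (show (1 : ℕ) < 552 by norm_num))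
    rw [Subgroup.coe_inv, Subgroup.coe_inv, ← ap_mul _ _ hh, mul_inv_cancel, ap_one] at e2
    exact e2.symm
  · intro e
    rw [← e, Subgroup.coe_inv, Subgroup.coe_inv, ap_inv_ap _ (ptV_mem (by norm_num))]

theorem path_injective : Function.Injective fun n : Fin 5 => (QuotientGroup.mk (path n) : ↥SM ⧸ BP) :=
  fun n m h => (point_spec n).2.2.2.2.2 m (mk_eq_iff.1 h)

open Classical in
/-- Representatives with given values at the fixed points. -/
def repM (x : ↥SM ⧸ BP) : ↥SM :=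
  if h : ∃ n : Fin 5, QuotientGroup.mk (path n) = x then path h.choose else Quotient.out x

theorem repM_spec (x : ↥SM ⧸ BP) : (QuotientGroup.mk (repM x) : ↥SM ⧸ BP) = x := by
  unfold repM
  split_ifs with h
  · exact h.choose_spec
  · exact Quotient.out_eq x

theorem repM_path (n : Fin 5) : repM (QuotientGroup.mk (path n)) = path n := by
  have h : ∃ m : Fin 5, (QuotientGroup.mk (path m) : ↥SM ⧸ BP) = QuotientGroup.mk (path n) := ⟨n, rfl⟩
  rw [repM, dif_pos h, path_injective h.choose_spec]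

/-- Every image of the base point is one of the 275. -/
theorem exists_orb (g : ↥SM) : ∃ k < 275,
    ap ((g : ↥G3) : ↥Co0) (ptV 1) = ptV (orb275.getD k 0) := by
  obtain ⟨f1, f2, f3⟩ := ptV_one_facts
  have hm := ptV_mem (show (1 : ℕ) < 552 by norm_num)
  set z := ap ((g : ↥G3) : ↥Co0) (ptV 1) with hz
  have hzm : z ∈ leechLattice := ap_mem _ hm
  have hn : sqNorm z = 32 := by rw [hz, ap_norm _ hm, f1]
  have hd : dotInt Spor.vecV z = -24 := by
    conv_lhs => rw [← mem_G3.1 (g : ↥G3).2]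
    rw [ap_dot _ vecV_leech hm, f2]
  have hd' : dotInt Spor.vecU z = 16 := by
    conv_lhs => rw [← mem_SM.1 g.2]
    rw [ap_dot _ vecU_leech hm, f3]
  have h := cover552 hzm hn hd
  rw [tabFS, List.mem_toFinset, List.mem_map] at h
  obtain ⟨i, hi, e⟩ := h
  have hlt : i < 552 := (show ∀ k ∈ co3Srt, k < 552 by decide +kernel) i hi
  rw [← e, ← vecU_list, ← vecOf_lstN (getSlot 96 co3Tab i), dot_vecOf (lstN_length _) (lstN_length _)]
    at hd'
  obtain ⟨k, hk, e'⟩ := List.mem_iff_getElem.1 (dot_codes i hlt hd')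
  refine ⟨k, orb275_ok.2.2.1 ▸ hk, ?_⟩
  rw [List.getD_eq_getElem _ _ hk, e', ← e]
  rfl

theorem fixed_iff (x : ↥SM ⧸ BP) : (pe 0 • x = x ∧ pe 1 • x = x) ↔
    ∃ n : Fin 5, (QuotientGroup.mk (path n) : ↥SM ⧸ BP) = x := by
  constructor
  · intro hx
    obtain ⟨g, rfl⟩ := QuotientGroup.mk_surjective x
    obtain ⟨k, hk, e⟩ := exists_orb g
    have hfix : ∀ t < 2, pe t • (QuotientGroup.mk g : ↥SM ⧸ BP) = QuotientGroup.mk g →
        lk (pairT.getD t 0) (orb275.getD k 0) = orb275.getD k 0 := by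
      intro t ht h
      have h' : (QuotientGroup.mk (pe t * g) : ↥SM ⧸ BP) = QuotientGroup.mk g := h
      rw [mk_eq_iff, Subgroup.coe_mul, Subgroup.coe_mul, ap_mul _ _ (ptV_mem (by norm_num)), e] at h'
      have hl : orb275.getD k 0 < 552 := orb275_ok.2.2.2.2.2 _ (by
        rw [List.getD_eq_getElem _ _ (by rw [orb275_ok.2.2.1]; exact hk)]; exact List.getElem_mem _)
      obtain ⟨l, hl'⟩ := pe_acts ht _ hl
      exact McLInv.ptV_inj l hl (hl'.symm.trans h')
    have h := pair_ok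
    simp only [pairOk, Bool.and_eq_true, List.all_eq_true, List.mem_range, Bool.or_eq_true,
      Bool.not_eq_true', List.any_eq_true, Bool.and_eq_false_iff] at h
    rcases h.1.2 k hk with hno | ⟨n, hn, hnk⟩
    · rw [hfix 0 (by norm_num) hx.1, hfix 1 (by norm_num) hx.2] at hno
      simp at hno
    · refine ⟨⟨n, hn⟩, mk_eq_iff.2 ?_⟩
      rw [(point_spec ⟨n, hn⟩).2.2.2.2.1, Nat.eq_of_beq_eq_true hnk, e]
  · rintro ⟨n, rfl⟩
    obtain ⟨-, -, e1, e2, -⟩ := point_spec n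
    constructor
    · show QuotientGroup.mk (pe 0 * path n) = _
      rw [e1]
      exact QuotientGroup.mk_mul_of_mem _ (show inc (locEl _) ∈ BP from (locEl _).2)
    · show QuotientGroup.mk (pe 1 * path n) = _
      rw [e2]
      exact QuotientGroup.mk_mul_of_mem _ (show inc (locEl _) ∈ BP from (locEl _).2)

variable {F : Type} [Field F] [Fintype F] (ι : MultU43.Iso F) (hF : Fintype.card F = 9)
  (φ : ↥PS ≃* MultU43.P F)

/-- The map to the simple group. -/
def toP (g : ↥SM) : MultU43.P F :=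
  open Classical in
  if h : (g : ↥G3) ∈ PS then φ ⟨g, h⟩ else 1

theorem toP_mul {g h : ↥SM} (hg : g ∈ BP) (hh : h ∈ BP) : toP φ (g * h) = toP φ g * toP φ h := by
  have hg' : (g : ↥G3) ∈ PS := hg
  have hh' : (h : ↥G3) ∈ PS := hh
  have hgh : ((g * h : ↥SM) : ↥G3) ∈ PS := PS.mul_mem hg' hh'
  rw [toP, toP, toP, dif_pos hg', dif_pos hh', dif_pos hgh, ← map_mul]
  rfl

theorem toP_one : toP φ 1 = 1 := by
  have h : ((1 : ↥SM) : ↥G3) ∈ PS := PS.one_mem
  rw [toP, dif_pos h]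
  exact map_one φ

theorem toP_inc (x : ↥PS) : toP φ (inc x) = φ x := by
  have h : ((inc x : ↥SM) : ↥G3) ∈ PS := x.2
  rw [toP, dif_pos h]
  rfl

/-- The class on the point stabiliser. -/
def cls (g h : ↥SM) : ZMod 3 :=
  haveI := MultU43.finite_P hF
  Cor.cor (MultU43.datum ι hF MultU43.tabA) (toP φ g) (toP φ h)

/-- The datum. -/
abbrev datumM : Cor.Datum ↥SM 3 where
  B := BP
  rep := repM
  rep_spec := repM_spec
  c := cls ι hF φ
  one_left h _ := by
    haveI := MultU43.finite_P hF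
    rw [cls, toP_one]
    exact Cor.cor_one_left _ _
  one_right g _ := by
    haveI := MultU43.finite_P hF
    rw [cls, toP_one]
    exact Cor.cor_one_right _ _
  cocycle g hg h hh k hk := by
    haveI := MultU43.finite_P hF
    simp only [cls]
    rw [toP_mul φ hg hh, toP_mul φ hh hk]
    exact Cor.cor_cocycle _ _ _ _

variable (hφ : ∀ n : Fin 2, ∃ s : MultU43.S F, QuotientGroup.mk s = φ ⟨_, h_mem n⟩ ∧
  MultU43.code ι (MultU43.mat s) = hCode.getD n.val [])

include hφ in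
theorem rep_hEl : ∀ w : List ℕ, (∀ k ∈ w, k < 2) → ∃ s : MultU43.S F,
    QuotientGroup.mk s = φ (hEl w) ∧ MultU43.code ι (MultU43.mat s) = hC w
  | [], _ => ⟨1, (map_one φ).symm, MultU43.code_one ι⟩
  | k :: w, hw => by
    obtain ⟨s, hs, hc⟩ := rep_hEl w fun j hj => hw j (List.mem_cons_of_mem _ hj)
    obtain ⟨t, ht, htc⟩ := hφ (Fin.ofNat 2 k)
    refine ⟨t * s, ?_, ?_⟩
    · rw [QuotientGroup.mk_mul, hs, ht, ← map_mul]
      rfl
    · rw [MultU43.mat_mul, MultU43.code_mul, htc, hc, hC]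
      have := hw k List.mem_cons_self
      rw [Fin.val_ofNat, Nat.mod_eq_of_lt this]

/-- A local element in the simple group. -/
def eP (j : ℕ) : MultU43.P F := φ (locEl j)

include hφ in
theorem loc_eq {j : ℕ} (hj : j < 10) (i : Fin 1120) :
    ∃ h : locQ j i < 1120, eP φ j * MultU43.rEl ι hF i =
      MultU43.rEl ι hF ⟨locQ j i, h⟩ * (MultU43.el ι hF (locE j i) * MultU43.tor ι hF (locJ j i)) ∧
        locE j i < 729 ∧ locJ j i < 4 := by
  have h := locStep_ok hj i.2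
  simp only [locStep, Bool.and_eq_true, Nat.blt_eq] at h
  refine ⟨h.1.1, MultU43.pkey_injective ι hF ?_, h.1.2, Nat.mod_lt _ (by norm_num)⟩
  have hw : ∀ k ∈ locW.getD j [], k < 2 := by
    have ht := locTbl_ok
    simp only [locTblOk, Bool.and_eq_true, List.all_eq_true, Nat.blt_eq] at ht
    refine ht.1.2 _ ?_
    rw [List.getD_eq_getElem _ _ (by rw [Nat.eq_of_beq_eq_true ht.1.1]; exact hj)]
    exact List.getElem_mem _
  obtain ⟨x, hx, hxc⟩ := MultU43.rep_pkey ι hF (MultU43.el ι hF (locE j i))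
  obtain ⟨y, hy, hyc⟩ := MultU43.rep_wP ι hF (MultU43.torW.getD (locJ j i) [])
  rw [eP, locEl, MultU43.pkey_mul ι hF _ _ (rep_hEl ι φ hφ _ hw) (MultU43.rep_pkey ι hF _),
    MultU43.key_rEl,
    MultU43.pkey_mul ι hF _ _ (MultU43.rep_pkey ι hF _)
      ⟨x * y, by rw [QuotientGroup.mk_mul, hx, hy]; rfl,
        by rw [MultU43.mat_mul, MultU43.code_mul, hxc, hyc]⟩,
    MultU43.key_rEl, MultU43.key_el ι hF h.1.2]
  exact Nat.eq_of_beq_eq_true h.2

include hφ in
theorem cor_loc {a b : ℕ} (ha : a < 10) (hb : b < 10) :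
    haveI := MultU43.finite_P hF
    Cor.cor (MultU43.datum ι hF MultU43.tabA) (eP φ a) (eP φ b) =
      ∑ i : Fin 1120, MultU43.phi MultU43.tabA (locE a (locQ b i))
        (MultU43.sig (locJ a (locQ b i)) (locE b i)) := by
  haveI := MultU43.finite_P hF
  letI := Fintype.ofFinite (MultU43.P F ⧸ MultU43.borel ι hF)
  refine Eq.trans ?_ (Finset.sum_congr rfl fun i _ => rfl)
  refine (Fintype.sum_bijective (MultU43.pt ι hF) (MultU43.pt_bijective ι hF) _ _ fun i => ?_).symm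
  have hmon : ∀ {c : ℕ}, c < 10 → ∀ q : Fin 1120, ∃ h : locQ c q < 1120,
      eP φ c • MultU43.pt ι hF q = MultU43.pt ι hF ⟨locQ c q, h⟩ ∧
      Cor.mon (MultU43.datum ι hF MultU43.tabA) (eP φ c) (MultU43.pt ι hF q) =
        MultU43.el ι hF (locE c q) * MultU43.tor ι hF (locJ c q) ∧ locE c q < 729 ∧ locJ c q < 4 := by
    intro c hc q
    obtain ⟨h, e, l1, l2⟩ := loc_eq ι hF φ hφ hc q
    have e' : eP φ c • MultU43.pt ι hF q = MultU43.pt ι hF ⟨locQ c q, h⟩ := by
      show QuotientGroup.mk (eP φ c * MultU43.rEl ι hF q) = _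
      rw [e]
      exact QuotientGroup.mk_mul_of_mem _ ⟨_, _, l1, l2, rfl⟩
    have hr : ∀ r, (MultU43.datum ι hF MultU43.tabA).rep (MultU43.pt ι hF r) = MultU43.rEl ι hF r :=
      fun r => by
        show MultU43.rEl ι hF ((Equiv.ofBijective _ (MultU43.pt_bijective ι hF)).symm
          (MultU43.pt ι hF r)) = _
        rw [Equiv.ofBijective_symm_apply_apply]
    refine ⟨h, e', ?_, l1, l2⟩
    show ((MultU43.datum ι hF MultU43.tabA).rep (eP φ c • MultU43.pt ι hF q))⁻¹ * eP φ c *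
      (MultU43.datum ι hF MultU43.tabA).rep (MultU43.pt ι hF q) = _
    rw [e', hr, hr, mul_assoc, e, inv_mul_cancel_left]
  obtain ⟨h, e, m1, h1, h2⟩ := hmon hb i
  obtain ⟨_, -, m2, h3, h4⟩ := hmon ha ⟨locQ b i, h⟩
  rw [e, m1, m2]
  exact (MultU43.cob_eq ι hF MultU43.tabA h3 h4 h1 h2).symm

include hφ in
theorem loc_value (n : Fin 5) :
    floc (datumM ι hF φ) (pe 0) (pe 1) (QuotientGroup.mk (path n)) = (locSum n.val : ℕ) := by
  haveI := MultU43.finite_P hF
  obtain ⟨l1, l2, e1, e2, -⟩ := point_spec n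
  obtain ⟨f1, f2⟩ := (fixed_iff _).2 ⟨n, rfl⟩
  have m : ∀ (t : ℕ) (x : ↥PS), pe t * path n = path n * inc x →
      pe t • (QuotientGroup.mk (path n) : ↥SM ⧸ BP) = QuotientGroup.mk (path n) →
      Cor.mon (datumM ι hF φ) (pe t) (QuotientGroup.mk (path n)) = inc x := by
    intro t x e f
    show (repM (pe t • QuotientGroup.mk (path n)))⁻¹ * pe t * repM (QuotientGroup.mk (path n)) = _
    rw [f, repM_path, mul_assoc, e, inv_mul_cancel_left]
  rw [floc, f1, f2, m 0 _ e1 f1, m 1 _ e2 f2]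
  show cls ι hF φ _ _ - cls ι hF φ _ _ = _
  simp only [cls, toP_inc]
  show Cor.cor _ (eP φ _) (eP φ _) - Cor.cor _ (eP φ _) (eP φ _) = _
  rw [cor_loc ι hF φ hφ l1 l2, cor_loc ι hF φ hφ l2 l1]
  generalize ha : (locI.getD n.val (0, 0)).1 = a
  generalize hb : (locI.getD n.val (0, 0)).2 = b
  have hs : ((List.range 1120).map (locTerm a b)).sum = ∑ i : Fin 1120, locTerm a b i := by
    rw [Fin.sum_univ_eq_sum_range (locTerm a b) 1120]
    rfl
  rw [locSum, ha, hb, ZMod.natCast_mod, hs, Nat.cast_sum]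
  simp only [locTerm, Nat.cast_add, Nat.cast_mul, Finset.sum_add_distrib, ← Finset.mul_sum, MultU43.phi]
  rw [Nat.cast_ofNat, show (2 : ZMod 3) = -1 from rfl, neg_one_mul, sub_eq_add_neg]

theorem five_values : ((2 : ℕ) : ZMod 3) + (2 : ℕ) + (0 : ℕ) + (1 : ℕ) + (0 : ℕ) ≠ 0 := by decide

include hφ in
theorem stem : haveI := finite_SM; Cfsg.IsStemExtension (Cor.proj (datumM ι hF φ)) := by
  haveI := finite_SM
  haveI : Fact (Nat.Prime 3) := ⟨Nat.prime_three⟩
  classical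
  letI := Fintype.ofFinite (↥SM ⧸ BP)
  obtain ⟨hab, ha, hb⟩ := pair_facts
  refine Cor.proj_stem (datumM ι hF φ) hab fun h => ?_
  have hp := pairing_fixed (datumM ι hF φ) hab ha hb
  rw [h, sub_self] at hp
  have hsum : ∑ x : ↥SM ⧸ BP, (if pe 0 • x = x ∧ pe 1 • x = x then
      floc (datumM ι hF φ) (pe 0) (pe 1) x else 0) =
      ∑ n : Fin 5, floc (datumM ι hF φ) (pe 0) (pe 1) (QuotientGroup.mk (path n)) := by
    rw [← Finset.sum_filter]
    refine (Finset.sum_nbij (fun n : Fin 5 => (QuotientGroup.mk (path n) : ↥SM ⧸ BP)) (fun n _ => ?_)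
      (fun n _ m _ e => path_injective e) (fun x hx => ?_) fun n _ => rfl).symm
    · exact Finset.mem_filter.2 ⟨Finset.mem_univ _, (fixed_iff _).2 ⟨n, rfl⟩⟩
    · obtain ⟨n, hn⟩ := (fixed_iff x).1 (Finset.mem_filter.1 hx).2
      exact ⟨n, Finset.mem_univ _, hn⟩
  obtain ⟨s0, s1, s2, s3, s4⟩ := locSum_ok
  rw [hsum, Fin.sum_univ_five, loc_value ι hF φ hφ, loc_value ι hF φ hφ, loc_value ι hF φ hφ,
    loc_value ι hF φ hφ, loc_value ι hF φ hφ] at hp
  simp only [Fin.val_zero, Fin.val_one, Fin.val_two, show ((3 : Fin 5) : ℕ) = 3 from rfl,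
    show ((4 : Fin 5) : ℕ) = 4 from rfl, s0, s1, s2, s3, s4] at hp
  exact five_values hp.symm

/-- The Schur multiplier. -/
theorem hasSchurMultiplier : Cfsg.HasCyclicSchurMultiplier ↥SM 3 := by
  haveI := finite_SM
  haveI : Fact (Nat.Prime 3) := ⟨Nat.prime_three⟩
  haveI : Fact (Nat.Prime 3) := ⟨Nat.prime_three⟩
  let F := GaloisField 3 2
  letI : Fintype F := Fintype.ofFinite F
  have hF : Fintype.card F = 9 := by
    rw [← Nat.card_eq_fintype_card, GaloisField.card 3 2 (by norm_num)]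
    norm_num
  obtain ⟨ι, φ, hφ⟩ := exists_psi F hF
  refine ⟨⟨Cor.Ext (datumM ι hF φ), inferInstance, inferInstance, _, stem ι hF φ hφ,
    ⟨mulEquivOfPrimeCardEq (p := 3) (Cor.card_ker _) (by simp)⟩⟩, ?_⟩
  intro Γ _ _ σ hσ
  obtain ⟨hs, hc, hd⟩ := hσ
  rcases card_ker σ hs hc hd with h | h
  · haveI := (Nat.card_eq_one_iff_unique.1 h).1
    exact ⟨1, fun x => ⟨1, Subsingleton.elim _ _⟩⟩
  · have e : Multiplicative (ZMod 3) ≃* σ.ker := mulEquivOfPrimeCardEq (p := 3) (by simp) h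
    exact ⟨e.toMonoidHom, e.surjective⟩

end

end Cfsg.Agent.MultMcL
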