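import Cfsg.Agent.Lib.LeechCount.McLPoint.Chain
import Cfsg.Agent.Lib.StemCert.Cert

/-!
Elements of the stabiliser of the pair as words with packed tables on the 552 vectors.
-/

set_option autoImplicit false

namespace Cfsg.Agent.MultMcL

open Cfsg.Agent.LeechCount Cfsg.Agent.LeechCount.Co3Out Cfsg.Agent.LeechCount.McLInv
open Cfsg.Agent.StemCert

/-- A letter. -/
def fl (k : ℕ) : Fin 4 := Fin.ofNat 4 k

/-- A table composed along a word. -/
def run (Ts : List ℕ) (w : List ℕ) (i : ℕ) : ℕ := w.foldr (fun k t => lk (Ts.getD k 0) t) i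

/-- The tables belong to the words. -/
def tblsOk (Ws : List (List ℕ)) (Ts : List ℕ) : Bool :=
  Nat.beq Ws.length Ts.length && (List.range Ws.length).all fun k =>
    (List.range 552).all fun i => Nat.beq (lk (Ts.getD k 0) i) (wordFn ((Ws.getD k []).map fl) i)

/-- The two words act alike. -/
def sameOn (Ts : List ℕ) (u v : List ℕ) : Bool :=
  (List.range 552).all fun i => Nat.beq (run Ts u i) (run Ts v i)

/-- The identities in the group. -/
def groupOk (C : Cert) (Ts : List ℕ) : Bool :=
  C.slots.all (fun s => Nat.blt (C.m + s.1) Ts.length &&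
    sameOn Ts ((C.m + s.1) :: C.lets s.2.1) (C.lets s.2.2 ++ [C.m + s.1])) &&
  C.rels.all (fun r => sameOn Ts r.1 r.2) && Nat.ble C.m Ts.length

/-- The key of a word at the base points. -/
def keyOf (Ts B : List ℕ) (w : List ℕ) : ℕ := (B.map (run Ts w)).foldr (fun a b => a + 1024 * b) 0

/-- An entry of a packed table. -/
def lookW (T : List ℕ) (w e : ℕ) : ℕ := (T.getD (e / 64) 0 >>> (w * (e % 64))) % 2 ^ w

/-- A normal form has the key at its place. -/
def formOk (C : Cert) (Ts B K P S : List ℕ) (e : ℕ) : Bool :=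
  Nat.beq (keyOf Ts B (C.lets e)) (lookW K (10 * B.length) (lookW P 10 e)) &&
    Nat.blt (lookW P 10 e) C.N && Nat.beq (lookW S 10 (lookW P 10 e)) e

/-- The keys increase. -/
def incOk (C : Cert) (B K : List ℕ) : Bool :=
  B.all (fun b => Nat.blt b 552) &&
  (List.range (C.N - 1)).all fun i => Nat.blt (lookW K (10 * B.length) i) (lookW K (10 * B.length) (i + 1))

end Cfsg.Agent.MultMcL
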