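import Cfsg.Agent.Lib.MultMcL.Elem
import Cfsg.Agent.Lib.MultMcL.LowData
import Cfsg.Agent.Lib.MultU43.CoverCheck

/-!
The checkers for the lower bound: a pair of commuting elements, its fixed points, and the local
values.
-/

set_option autoImplicit false

namespace Cfsg.Agent.MultMcL

open Cfsg.Agent.LeechCount Cfsg.Agent.LeechCount.Co3Out Cfsg.Agent.LeechCount.McLInv
open Cfsg.Agent.LeechCount.McLPoint
open Cfsg.Agent.MultU43 (mmul idC mkey unk rc fc tc phiN sig tabA part)

/-- The tables of the two generators. -/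
def hTs : List ℕ := [hT1, hT2]

/-- The code of a word in the two generators. -/
def hC : List ℕ → List ℕ
  | [] => idC
  | k :: w => mmul (hCode.getD k []) (hC w)

/-- The coset. -/
def locQ (a i : ℕ) : ℕ := MultU43.look (locAct.getD a []) 24 i / 4096

/-- The normal form. -/
def locE (a i : ℕ) : ℕ := MultU43.look (locAct.getD a []) 24 i % 4096 / 4

/-- The torus part. -/
def locJ (a i : ℕ) : ℕ := MultU43.look (locAct.getD a []) 24 i % 4

/-- One entry of the action of a local element. -/
def locStep (a i : ℕ) : Bool :=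
  Nat.blt (locQ a i) 1120 && Nat.blt (locE a i) 729 &&
    Nat.beq (mkey (mmul (hC (locW.getD a [])) (unk (rc i))))
      (mkey (mmul (unk (rc (locQ a i))) (mmul (unk (fc (locE a i))) (tc (locJ a i)))))

/-- The term of a coset. -/
def locTerm (a b i : ℕ) : ℕ :=
  phiN tabA (locE a (locQ b i)) (sig (locJ a (locQ b i)) (locE b i)) +
    2 * phiN tabA (locE b (locQ a i)) (sig (locJ b (locQ a i)) (locE a i))

/-- The value at a fixed point. -/
def locSum (k : ℕ) : ℕ :=
  ((List.range 1120).map (locTerm (locI.getD k (0, 0)).1 (locI.getD k (0, 0)).2)).sum % 3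

/-- The local tables. -/
def locTblOk : Bool :=
  Nat.beq locW.length 10 && locW.all (fun w => w.all fun r => Nat.blt r 2) &&
    (List.range 10).all fun j => (List.range 552).all fun i =>
      Nat.beq (lk (locT.getD j 0) i) (run hTs (locW.getD j []) i)

/-- The pair and its fixed points. -/
def pairOk : Bool :=
  tblsOk pairW pairT && sameOn pairT [0, 1] [1, 0] && sameOn pairT [0, 0, 0] [] &&
  sameOn pairT [1, 1, 1] [] &&
  (List.range 275).all (fun k =>
    let i := orb275.getD k 0
    !(Nat.beq (lk (pairT.getD 0 0) i) i && Nat.beq (lk (pairT.getD 1 0) i) i) ||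
      (List.range 5).any fun n => Nat.beq (fixPts.getD n 0) k) &&
  (List.range 5).all fun n =>
    let g := (pathW.getD n []).map fl
    let p := locI.getD n (0, 0)
    Nat.blt p.1 10 && Nat.blt p.2 10 &&
    Nat.beq (wordFn g 1) (orb275.getD (fixPts.getD n 0) 0) &&
    (List.range 5).all (fun m => Nat.beq n m || !Nat.beq (wordFn g 1) (wordFn ((pathW.getD m []).map fl) 1)) &&
    (List.range 552).all fun i =>
      Nat.beq (lk (pairT.getD 0 0) (wordFn g i)) (wordFn g (lk (locT.getD p.1 0) i)) &&
      Nat.beq (lk (pairT.getD 1 0) (wordFn g i)) (wordFn g (lk (locT.getD p.2 0) i))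

end Cfsg.Agent.MultMcL
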