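import Cfsg.Agent.Lib.MultMcL.LowCheck

/-! Kernel checks for the lower bound. -/

set_option autoImplicit false
set_option maxRecDepth 20000
set_option Elab.async false

namespace Cfsg.Agent.MultMcL

open Cfsg.Agent.MultU43 (part of_parts)

theorem pair_ok : pairOk = true := by decide +kernel

theorem locTbl_ok : locTblOk = true := by decide +kernel

theorem locStep0_0 : part (locStep 0) 140 0 = true := by decide +kernel
theorem locStep0_1 : part (locStep 0) 140 1 = true := by decide +kernel
theorem locStep0_2 : part (locStep 0) 140 2 = true := by decide +kernel
theorem locStep0_3 : part (locStep 0) 140 3 = true := by decide +kernel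
theorem locStep0_4 : part (locStep 0) 140 4 = true := by decide +kernel
theorem locStep0_5 : part (locStep 0) 140 5 = true := by decide +kernel
theorem locStep0_6 : part (locStep 0) 140 6 = true := by decide +kernel
theorem locStep0_7 : part (locStep 0) 140 7 = true := by decide +kernel
theorem locStep1_0 : part (locStep 1) 140 0 = true := by decide +kernel
theorem locStep1_1 : part (locStep 1) 140 1 = true := by decide +kernel
theorem locStep1_2 : part (locStep 1) 140 2 = true := by decide +kernel
theorem locStep1_3 : part (locStep 1) 140 3 = true := by decide +kernel
theorem locStep1_4 : part (locStep 1) 140 4 = true := by decide +kernel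
theorem locStep1_5 : part (locStep 1) 140 5 = true := by decide +kernel
theorem locStep1_6 : part (locStep 1) 140 6 = true := by decide +kernel
theorem locStep1_7 : part (locStep 1) 140 7 = true := by decide +kernel
theorem locStep2_0 : part (locStep 2) 140 0 = true := by decide +kernel
theorem locStep2_1 : part (locStep 2) 140 1 = true := by decide +kernel
theorem locStep2_2 : part (locStep 2) 140 2 = true := by decide +kernel
theorem locStep2_3 : part (locStep 2) 140 3 = true := by decide +kernel
theorem locStep2_4 : part (locStep 2) 140 4 = true := by decide +kernel
theorem locStep2_5 : part (locStep 2) 140 5 = true := by decide +kernel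
theorem locStep2_6 : part (locStep 2) 140 6 = true := by decide +kernel
theorem locStep2_7 : part (locStep 2) 140 7 = true := by decide +kernel
theorem locStep3_0 : part (locStep 3) 140 0 = true := by decide +kernel
theorem locStep3_1 : part (locStep 3) 140 1 = true := by decide +kernel
theorem locStep3_2 : part (locStep 3) 140 2 = true := by decide +kernel
theorem locStep3_3 : part (locStep 3) 140 3 = true := by decide +kernel
theorem locStep3_4 : part (locStep 3) 140 4 = true := by decide +kernel
theorem locStep3_5 : part (locStep 3) 140 5 = true := by decide +kernel
theorem locStep3_6 : part (locStep 3) 140 6 = true := by decide +kernel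
theorem locStep3_7 : part (locStep 3) 140 7 = true := by decide +kernel
theorem locStep4_0 : part (locStep 4) 140 0 = true := by decide +kernel
theorem locStep4_1 : part (locStep 4) 140 1 = true := by decide +kernel
theorem locStep4_2 : part (locStep 4) 140 2 = true := by decide +kernel
theorem locStep4_3 : part (locStep 4) 140 3 = true := by decide +kernel
theorem locStep4_4 : part (locStep 4) 140 4 = true := by decide +kernel
theorem locStep4_5 : part (locStep 4) 140 5 = true := by decide +kernel
theorem locStep4_6 : part (locStep 4) 140 6 = true := by decide +kernel
theorem locStep4_7 : part (locStep 4) 140 7 = true := by decide +kernel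
theorem locStep5_0 : part (locStep 5) 140 0 = true := by decide +kernel
theorem locStep5_1 : part (locStep 5) 140 1 = true := by decide +kernel
theorem locStep5_2 : part (locStep 5) 140 2 = true := by decide +kernel
theorem locStep5_3 : part (locStep 5) 140 3 = true := by decide +kernel
theorem locStep5_4 : part (locStep 5) 140 4 = true := by decide +kernel
theorem locStep5_5 : part (locStep 5) 140 5 = true := by decide +kernel
theorem locStep5_6 : part (locStep 5) 140 6 = true := by decide +kernel
theorem locStep5_7 : part (locStep 5) 140 7 = true := by decide +kernel
theorem locStep6_0 : part (locStep 6) 140 0 = true := by decide +kernel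
theorem locStep6_1 : part (locStep 6) 140 1 = true := by decide +kernel
theorem locStep6_2 : part (locStep 6) 140 2 = true := by decide +kernel
theorem locStep6_3 : part (locStep 6) 140 3 = true := by decide +kernel
theorem locStep6_4 : part (locStep 6) 140 4 = true := by decide +kernel
theorem locStep6_5 : part (locStep 6) 140 5 = true := by decide +kernel
theorem locStep6_6 : part (locStep 6) 140 6 = true := by decide +kernel
theorem locStep6_7 : part (locStep 6) 140 7 = true := by decide +kernel
theorem locStep7_0 : part (locStep 7) 140 0 = true := by decide +kernel
theorem locStep7_1 : part (locStep 7) 140 1 = true := by decide +kernel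
theorem locStep7_2 : part (locStep 7) 140 2 = true := by decide +kernel
theorem locStep7_3 : part (locStep 7) 140 3 = true := by decide +kernel
theorem locStep7_4 : part (locStep 7) 140 4 = true := by decide +kernel
theorem locStep7_5 : part (locStep 7) 140 5 = true := by decide +kernel
theorem locStep7_6 : part (locStep 7) 140 6 = true := by decide +kernel
theorem locStep7_7 : part (locStep 7) 140 7 = true := by decide +kernel
theorem locStep8_0 : part (locStep 8) 140 0 = true := by decide +kernel
theorem locStep8_1 : part (locStep 8) 140 1 = true := by decide +kernel
theorem locStep8_2 : part (locStep 8) 140 2 = true := by decide +kernel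
theorem locStep8_3 : part (locStep 8) 140 3 = true := by decide +kernel
theorem locStep8_4 : part (locStep 8) 140 4 = true := by decide +kernel
theorem locStep8_5 : part (locStep 8) 140 5 = true := by decide +kernel
theorem locStep8_6 : part (locStep 8) 140 6 = true := by decide +kernel
theorem locStep8_7 : part (locStep 8) 140 7 = true := by decide +kernel
theorem locStep9_0 : part (locStep 9) 140 0 = true := by decide +kernel
theorem locStep9_1 : part (locStep 9) 140 1 = true := by decide +kernel
theorem locStep9_2 : part (locStep 9) 140 2 = true := by decide +kernel
theorem locStep9_3 : part (locStep 9) 140 3 = true := by decide +kernel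
theorem locStep9_4 : part (locStep 9) 140 4 = true := by decide +kernel
theorem locStep9_5 : part (locStep 9) 140 5 = true := by decide +kernel
theorem locStep9_6 : part (locStep 9) 140 6 = true := by decide +kernel
theorem locStep9_7 : part (locStep 9) 140 7 = true := by decide +kernel

theorem locStep_ok {a i : ℕ} (ha : a < 10) (hi : i < 1120) : locStep a i = true := by
  refine of_parts (n := 140) (m := 8) (by norm_num) (fun k hk => ?_) i hi
  interval_cases a <;> interval_cases k
  · exact locStep0_0
  · exact locStep0_1
  · exact locStep0_2
  · exact locStep0_3
  · exact locStep0_4
  · exact locStep0_5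
  · exact locStep0_6
  · exact locStep0_7
  · exact locStep1_0
  · exact locStep1_1
  · exact locStep1_2
  · exact locStep1_3
  · exact locStep1_4
  · exact locStep1_5
  · exact locStep1_6
  · exact locStep1_7
  · exact locStep2_0
  · exact locStep2_1
  · exact locStep2_2
  · exact locStep2_3
  · exact locStep2_4
  · exact locStep2_5
  · exact locStep2_6
  · exact locStep2_7
  · exact locStep3_0
  · exact locStep3_1
  · exact locStep3_2
  · exact locStep3_3
  · exact locStep3_4
  · exact locStep3_5
  · exact locStep3_6
  · exact locStep3_7
  · exact locStep4_0
  · exact locStep4_1
  · exact locStep4_2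
  · exact locStep4_3
  · exact locStep4_4
  · exact locStep4_5
  · exact locStep4_6
  · exact locStep4_7
  · exact locStep5_0
  · exact locStep5_1
  · exact locStep5_2
  · exact locStep5_3
  · exact locStep5_4
  · exact locStep5_5
  · exact locStep5_6
  · exact locStep5_7
  · exact locStep6_0
  · exact locStep6_1
  · exact locStep6_2
  · exact locStep6_3
  · exact locStep6_4
  · exact locStep6_5
  · exact locStep6_6
  · exact locStep6_7
  · exact locStep7_0
  · exact locStep7_1
  · exact locStep7_2
  · exact locStep7_3
  · exact locStep7_4
  · exact locStep7_5
  · exact locStep7_6
  · exact locStep7_7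
  · exact locStep8_0
  · exact locStep8_1
  · exact locStep8_2
  · exact locStep8_3
  · exact locStep8_4
  · exact locStep8_5
  · exact locStep8_6
  · exact locStep8_7
  · exact locStep9_0
  · exact locStep9_1
  · exact locStep9_2
  · exact locStep9_3
  · exact locStep9_4
  · exact locStep9_5
  · exact locStep9_6
  · exact locStep9_7

theorem locSum_ok : locSum 0 = 2 ∧ locSum 1 = 2 ∧ locSum 2 = 0 ∧ locSum 3 = 1 ∧ locSum 4 = 0 := by
  decide +kernel

end Cfsg.Agent.MultMcL
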