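import Cfsg.Agent.Lib.MultMcL.Elem
import Cfsg.Agent.Lib.MultMcL.MTwoData

/-! Kernel checks of a certificate for McL. -/

set_option autoImplicit false
set_option maxRecDepth 20000
set_option Elab.async false

namespace Cfsg.Agent.MultMcL

open Cfsg.Agent.StemCert

theorem mTwo_tbls : tblsOk mTwoW mTwoT = true := by decide +kernel

theorem mTwo_check : mTwo.shapeOk = true ∧ mTwo.linOk = true ∧ groupOk mTwo mTwoT = true ∧
    incOk mTwo mTwoB mTwoK = true ∧ mTwo.N = 128 := by
  decide +kernel

theorem mTwo_tab_0_0 : ((List.range 128).all fun e => mTwo.stepOk 0 (0 + e)) = true := by decide +kernel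
theorem mTwo_tab_1_0 : ((List.range 128).all fun e => mTwo.stepOk 1 (0 + e)) = true := by decide +kernel
theorem mTwo_tab_2_0 : ((List.range 128).all fun e => mTwo.stepOk 2 (0 + e)) = true := by decide +kernel
theorem mTwo_tab_3_0 : ((List.range 128).all fun e => mTwo.stepOk 3 (0 + e)) = true := by decide +kernel
theorem mTwo_tab_4_0 : ((List.range 128).all fun e => mTwo.stepOk 4 (0 + e)) = true := by decide +kernel
theorem mTwo_tab_5_0 : ((List.range 128).all fun e => mTwo.stepOk 5 (0 + e)) = true := by decide +kernel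
theorem mTwo_tab_6_0 : ((List.range 128).all fun e => mTwo.stepOk 6 (0 + e)) = true := by decide +kernel

theorem mTwo_tab : mTwo.tabOk = true := by
  simp only [Cert.tabOk, List.all_eq_true, List.mem_range]
  intro i hi e he
  have hN : mTwo.N = 128 := mTwo_check.2.2.2.2
  have hi' : i < 7 := hi
  interval_cases i
  · simpa using List.all_eq_true.1 mTwo_tab_0_0 e (List.mem_range.2 (by omega))
  · simpa using List.all_eq_true.1 mTwo_tab_1_0 e (List.mem_range.2 (by omega))
  · simpa using List.all_eq_true.1 mTwo_tab_2_0 e (List.mem_range.2 (by omega))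
  · simpa using List.all_eq_true.1 mTwo_tab_3_0 e (List.mem_range.2 (by omega))
  · simpa using List.all_eq_true.1 mTwo_tab_4_0 e (List.mem_range.2 (by omega))
  · simpa using List.all_eq_true.1 mTwo_tab_5_0 e (List.mem_range.2 (by omega))
  · simpa using List.all_eq_true.1 mTwo_tab_6_0 e (List.mem_range.2 (by omega))

theorem mTwo_form_0 : ((List.range 128).all fun e => formOk mTwo mTwoT mTwoB mTwoK mTwoP mTwoS (0 + e)) = true := by decide +kernel

theorem mTwo_form : ∀ e < mTwo.N, formOk mTwo mTwoT mTwoB mTwoK mTwoP mTwoS e = true := by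
  intro e he
  have hN : mTwo.N = 128 := mTwo_check.2.2.2.2
  simpa using List.all_eq_true.1 mTwo_form_0 e (List.mem_range.2 (by omega))

theorem mTwo_bound : mTwo.c = 0 ∧ mTwo.n = 2 := by decide +kernel

end Cfsg.Agent.MultMcL
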