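import Cfsg.Agent.Lib.MultMcL.Cover
import Cfsg.Agent.Lib.LeechCount.Co3Out.Model

/-!
The Schur multiplier of the McLaughlin group.
-/

set_option autoImplicit false

namespace Cfsg.Agent.MultMcL

open Cfsg Cfsg.Agent.LeechCount.Co3Out

theorem transfer {G H : Type} [Group G] [Group H] (E : H ≃* G) {A : Type} [CommGroup A]
    (h : HasSchurMultiplier H A) : HasSchurMultiplier G A := by
  obtain ⟨⟨Γ, i1, i2, σ, ⟨hs, hc, hd⟩, ⟨e⟩⟩, hall⟩ := h
  have hk : ∀ {Δ : Type} [Group Δ] {X Y : Type} [Group X] [Group Y] (f : X ≃* Y) (τ : Δ →* X),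
      (f.toMonoidHom.comp τ).ker = τ.ker := fun f τ => by
    ext x
    show f (τ x) = 1 ↔ τ x = 1
    exact map_eq_one_iff f f.injective
  refine ⟨⟨Γ, i1, i2, E.toMonoidHom.comp σ,
    ⟨E.surjective.comp hs, by rw [hk]; exact hc, by rw [hk]; exact hd⟩,
    ⟨(MulEquiv.subgroupCongr (hk E σ)).trans e⟩⟩, ?_⟩
  intro Δ _ _ τ hτ
  obtain ⟨hs', hc', hd'⟩ := hτ
  obtain ⟨f, hf⟩ := hall Δ (E.symm.toMonoidHom.comp τ)
    ⟨E.symm.surjective.comp hs', by rw [hk]; exact hc', by rw [hk]; exact hd'⟩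
  exact ⟨(MulEquiv.subgroupCongr (hk E.symm τ)).toMonoidHom.comp f,
    (MulEquiv.subgroupCongr (hk E.symm τ)).surjective.comp hf⟩

/-- The multiplier of McL is cyclic of order three. -/
theorem multiplier : HasCyclicSchurMultiplier ↥Spor.McL 3 :=
  transfer mclEquiv.symm hasSchurMultiplier

end Cfsg.Agent.MultMcL
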